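import Groth.Prelude.Def_HTop2
import Mathlib.AlgebraicGeometry.Morphisms.UniversallyInjective
import Mathlib.AlgebraicGeometry.Morphisms.Integral
import Mathlib.AlgebraicGeometry.ResidueField

/-!
Universal homeomorphisms between affine schemes, in terms of ring maps.
-/

set_option autoImplicit false

universe u

open CategoryTheory AlgebraicGeometry Limits

namespace Groth.Agent.Eta

variable {A B : Type u} [CommRing A] [CommRing B] (f : A →+* B)

theorem residueFieldMap_bijective_iff (q : PrimeSpectrum B) :
    IsIso ((Spec.map (CommRingCat.ofHom f)).residueFieldMap q) ↔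
      Function.Bijective (Ideal.ResidueField.map (PrimeSpectrum.comap f q).asIdeal q.asIdeal f rfl) := by
  let F := Spec.map (CommRingCat.ofHom f)
  let iA := Scheme.Spec.residueFieldIso (CommRingCat.of A) (PrimeSpectrum.comap f q)
  let iB := Scheme.Spec.residueFieldIso (CommRingCat.of B) q
  have key : iA.inv ≫ F.residueFieldMap q ≫ iB.hom =
      CommRingCat.ofHom (Ideal.ResidueField.map (PrimeSpectrum.comap f q).asIdeal q.asIdeal f rfl) := by
    refine CommRingCat.hom_ext (Ideal.ResidueField.ringHom_ext ?_)
    have h1 : CommRingCat.ofHom (algebraMap A (PrimeSpectrum.comap f q).asIdeal.ResidueField) ≫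
        iA.inv = (Scheme.ΓSpecIso (.of A)).inv ≫ (Spec (.of A)).Γevaluation (PrimeSpectrum.comap f q) :=
      Scheme.Spec.algebraMap_residueFieldIso_inv (CommRingCat.of A) (PrimeSpectrum.comap f q)
    have h2 : CommRingCat.ofHom (algebraMap B q.asIdeal.ResidueField) =
        (Scheme.ΓSpecIso (.of B)).inv ≫ (Spec (.of B)).Γevaluation q ≫ iB.hom := by
      rw [← Category.assoc, ← Iso.comp_inv_eq]
      exact Scheme.Spec.algebraMap_residueFieldIso_inv (CommRingCat.of B) q
    have h3 : CommRingCat.ofHom (algebraMap A (PrimeSpectrum.comap f q).asIdeal.ResidueField) ≫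
        (iA.inv ≫ F.residueFieldMap q ≫ iB.hom) =
        CommRingCat.ofHom f ≫ CommRingCat.ofHom (algebraMap B q.asIdeal.ResidueField) := by
      have h4 := Scheme.Γevaluation_naturality_assoc F q iB.hom
      have h5 := Scheme.ΓSpecIso_inv_naturality (CommRingCat.ofHom f)
      refine ((Category.assoc _ _ _).symm.trans (congrArg (· ≫ _) h1)).trans ?_
      refine (Category.assoc _ _ _).trans ?_
      refine (congrArg ((Scheme.ΓSpecIso (.of A)).inv ≫ ·) h4).trans ?_
      refine (Category.assoc _ _ _).symm.trans ?_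
      refine (congrArg (· ≫ _) h5.symm).trans ?_
      rw [h2]
      exact Category.assoc _ _ _
    refine (congrArg CommRingCat.Hom.hom h3).trans ?_
    exact RingHom.ext fun a => (Ideal.ResidueField.map_algebraMap _ _ _ _ a).symm
  have : IsIso (F.residueFieldMap q) ↔ IsIso (iA.inv ≫ F.residueFieldMap q ≫ iB.hom) := by
    exact ((isIso_comp_left_iff iA.inv _).trans (isIso_comp_right_iff (F.residueFieldMap q) iB.hom)).symm
  refine this.trans ?_
  rw [key]
  exact ConcreteCategory.isIso_iff_bijective _

/-- An integral ring map bijective on spectra with trivial residue field extensions gives a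
universal homeomorphism with trivial residue field extensions. -/
theorem univHomeo_of_integral (hf : f.IsIntegral) (hb : Function.Bijective (PrimeSpectrum.comap f))
    (hres : ∀ q : PrimeSpectrum B, Function.Surjective
      (Ideal.ResidueField.map (PrimeSpectrum.comap f q).asIdeal q.asIdeal f rfl)) :
    FlatMor.IsUnivHomeo (Spec.map (CommRingCat.ofHom f)) ∧
      HTop.ResidueFieldsIso (Spec.map (CommRingCat.ofHom f)) := by
  have hiso : HTop.ResidueFieldsIso (Spec.map (CommRingCat.ofHom f)) := fun q =>
    (residueFieldMap_bijective_iff f q).mpr ⟨RingHom.injective _, hres q⟩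
  have hint : IsIntegralHom (Spec.map (CommRingCat.ofHom f)) := IsIntegralHom.SpecMap_iff.mpr hf
  have hsurj : Surjective (Spec.map (CommRingCat.ofHom f)) := ⟨hb.2⟩
  have huinj : UniversallyInjective (Spec.map (CommRingCat.ofHom f)) := by
    refine ((tfae_universallyInjective (Spec.map (CommRingCat.ofHom f))).out 0 2).mpr ?_
    refine ⟨hb.1, fun q => ?_⟩
    have := hiso q
    have hbij := ConcreteCategory.bijective_of_isIso ((Spec.map (CommRingCat.ofHom f)).residueFieldMap q)
    let _ := ((Spec.map (CommRingCat.ofHom f)).residueFieldMap q).hom.toAlgebra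
    exact ⟨⟨fun x => by obtain ⟨y, rfl⟩ := hbij.2 x; exact isIntegral_algebraMap⟩, fun x _ => hbij.2 x⟩
  refine ⟨?_, hiso⟩
  intro X Y i j g hP
  have h1 : UniversallyClosed g := MorphismProperty.of_isPullback hP.flip inferInstance
  have h2 : Surjective g := MorphismProperty.of_isPullback hP.flip hsurj
  have h3 : UniversallyInjective g := MorphismProperty.of_isPullback hP.flip huinj
  exact isHomeomorph_iff_continuous_isClosedMap_bijective.mpr
    ⟨g.continuous, g.isClosedMap, g.injective, g.surjective⟩

theorem integral_bijective_of_univHomeo (h : FlatMor.IsUnivHomeo (Spec.map (CommRingCat.ofHom f))) :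
    f.IsIntegral ∧ Function.Bijective (PrimeSpectrum.comap f) := by
  have h0 : IsHomeomorph (Spec.map (CommRingCat.ofHom f)) :=
    h (𝟙 _) (𝟙 _) _ .of_id_snd
  refine ⟨?_, h0.bijective⟩
  have : UniversallyClosed (Spec.map (CommRingCat.ofHom f)) :=
    ⟨fun X Y i j g hP => (h i j g hP).isClosedMap⟩
  exact IsIntegralHom.SpecMap_iff.mp
    (IsIntegralHom.iff_universallyClosed_and_isAffineHom.mpr ⟨this, inferInstance⟩)

theorem surjective_residue_of_residueFieldsIso
    (h : HTop.ResidueFieldsIso (Spec.map (CommRingCat.ofHom f))) (q : PrimeSpectrum B) :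
    Function.Surjective
      (Ideal.ResidueField.map (PrimeSpectrum.comap f q).asIdeal q.asIdeal f rfl) :=
  ((residueFieldMap_bijective_iff f q).mp (h q)).2

variable {L : Type u} [Field L]

/-- Homs into a field out of `B` agreeing on `A` are equal, for `Spec` injective with trivial
residue field extensions. -/
theorem hom_ext_field (hb : Function.Injective (PrimeSpectrum.comap f))
    (hres : ∀ q : PrimeSpectrum B, Function.Surjective
      (Ideal.ResidueField.map (PrimeSpectrum.comap f q).asIdeal q.asIdeal f rfl))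
    (h h' : B →+* L) (hh : h.comp f = h'.comp f) : h = h' := by
  obtain ⟨q, hq0⟩ : ∃ q : PrimeSpectrum B, q.asIdeal = RingHom.ker h :=
    ⟨⟨_, RingHom.ker_isPrime h⟩, rfl⟩
  have hq : RingHom.ker h' = q.asIdeal := by
    rw [hq0]
    have : (⟨RingHom.ker h', RingHom.ker_isPrime h'⟩ : PrimeSpectrum B) =
        ⟨RingHom.ker h, RingHom.ker_isPrime h⟩ :=
      hb (PrimeSpectrum.ext (Ideal.ext fun a => by
        show h' (f a) = 0 ↔ h (f a) = 0
        rw [← RingHom.comp_apply h', ← hh, RingHom.comp_apply]))
    exact congrArg PrimeSpectrum.asIdeal this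
  have l : ∀ g : B →+* L, RingHom.ker g = q.asIdeal →
      ∃ φ : q.asIdeal.ResidueField →+* L, φ.comp (algebraMap B _) = g := fun g hg =>
    ⟨Ideal.ResidueField.lift q.asIdeal g hg.ge
      (fun a ha => isUnit_iff_ne_zero.mpr fun h0 => ha (hg ▸ h0)),
      RingHom.ext fun a => by
        rw [RingHom.comp_apply]
        exact Ideal.ResidueField.lift_algebraMap q.asIdeal g hg.ge
          (fun a ha => isUnit_iff_ne_zero.mpr fun h0 => ha (hg ▸ h0)) a⟩
  obtain ⟨φ, hφ⟩ := l h hq0.symm
  obtain ⟨φ', hφ'⟩ := l h' hq
  rw [← hφ, ← hφ']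
  congr 1
  let m := Ideal.ResidueField.map (PrimeSpectrum.comap f q).asIdeal q.asIdeal f rfl
  have hm : φ.comp m = φ'.comp m := by
    refine Ideal.ResidueField.ringHom_ext ?_
    have hmc : m.comp (algebraMap A _) = (algebraMap B q.asIdeal.ResidueField).comp f :=
      RingHom.ext fun a => Ideal.ResidueField.map_algebraMap _ _ _ _ a
    rw [RingHom.comp_assoc, RingHom.comp_assoc, hmc, ← RingHom.comp_assoc, ← RingHom.comp_assoc,
      hφ, hφ', hh]
  exact RingHom.ext fun y => by
    obtain ⟨x, rfl⟩ := hres q y
    exact DFunLike.congr_fun hm x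

/-- A point of `A` with values in a field extends to `B`. -/
theorem exists_hom_field (hb : Function.Surjective (PrimeSpectrum.comap f))
    (hres : ∀ q : PrimeSpectrum B, Function.Surjective
      (Ideal.ResidueField.map (PrimeSpectrum.comap f q).asIdeal q.asIdeal f rfl))
    (g : A →+* L) : ∃ h : B →+* L, h.comp f = g := by
  obtain ⟨q, hq⟩ := hb ⟨RingHom.ker g, RingHom.ker_isPrime g⟩
  have hker : (PrimeSpectrum.comap f q).asIdeal = RingHom.ker g := congrArg PrimeSpectrum.asIdeal hq
  let m := RingEquiv.ofBijective (Ideal.ResidueField.map _ q.asIdeal f rfl)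
    ⟨RingHom.injective _, hres q⟩
  let φ : (PrimeSpectrum.comap f q).asIdeal.ResidueField →+* L :=
    Ideal.ResidueField.lift _ g hker.le
      (fun a ha => isUnit_iff_ne_zero.mpr fun h' => ha (hker ▸ h'))
  refine ⟨(φ.comp m.symm.toRingHom).comp (algebraMap B _), RingHom.ext fun a => ?_⟩
  have : m.symm (algebraMap B _ (f a)) = algebraMap A _ a :=
    m.symm_apply_eq.mpr (Ideal.ResidueField.map_algebraMap _ _ _ _ a).symm
  show φ (m.symm _) = g a
  rw [this]
  exact Ideal.ResidueField.lift_algebraMap _ _ _ _ a

end Groth.Agent.Eta
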