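import Groth.Prelude.Def_W4c1chowmix47Eta
import Mathlib.RingTheory.Valuation.LocalSubring
import Mathlib.FieldTheory.Perfect
import Mathlib.FieldTheory.IsAlgClosed.Basic
import Mathlib.Algebra.CharP.Reduced
import Mathlib.Algebra.CharP.Algebra
import Mathlib.Algebra.GCDMonoid.IntegrallyClosed
import Mathlib.RingTheory.PrincipalIdealDomain

/-!
Basic lemmas on the pointwise construction attached to an endofunctor of fields.
-/

set_option autoImplicit false

universe u

namespace Groth.Agent.Eta

open EtaPt

variable (η : FieldEndo.{u})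

section Field

variable {K L E : Type u} [Field K] [Field L] [Field E]

/-- Equality of powers by the exponential characteristic in a field receiving `K`. -/
theorem eq_of_pow_eq (i : K →+* L) {x y : L} {n : ℕ}
    (h : x ^ ringExpChar K ^ n = y ^ ringExpChar K ^ n) : x = y := by
  have : ExpChar L (ringExpChar K) := expChar_of_injective_ringHom i.injective _
  exact iterateFrobenius_inj L (ringExpChar K) n
    (by rwa [iterateFrobenius_def, iterateFrobenius_def])

/-- A hom out of `F K` is determined by its restriction to `K`. -/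
theorem hom_ext {φ ψ : η.obj K →+* L} (h : φ.comp (η.eta K) = ψ.comp (η.eta K)) : φ = ψ := by
  refine RingHom.ext fun x => ?_
  obtain ⟨n, a, ha⟩ := η.exists_pow_mem_range_eta K x
  refine eq_of_pow_eq (φ.comp (η.eta K)) (n := n) ?_
  rw [← map_pow, ← map_pow, ← ha]
  exact DFunLike.congr_fun h a

theorem eta_natural_apply (f : K →+* L) (a : K) : η.map f (η.eta K a) = η.eta L (f a) :=
  DFunLike.congr_fun (η.eta_natural f) a

theorem map_map_apply (f : K →+* L) (g : L →+* E) (y : η.obj K) :
    η.map g (η.map f y) = η.map (g.comp f) y := by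
  rw [η.map_comp f g, RingHom.comp_apply]

/-- `η` is bijective at `F K`. -/
theorem eta_obj_bijective (K : Type u) [Field K] : Function.Bijective (η.eta (η.obj K)) := by
  have : η.eta (η.obj K) = η.map (η.eta K) := hom_ext η (η.eta_natural (η.eta K)).symm
  rw [this]
  exact η.bijective_map_eta K

theorem eta_bijective_of_equiv (e : K ≃+* L) (h : Function.Bijective (η.eta K)) :
    Function.Bijective (η.eta L) := by
  refine ⟨(η.eta L).injective, fun y => ?_⟩
  obtain ⟨x, hx⟩ := h.2 (η.map e.symm.toRingHom y)
  refine ⟨e x, ?_⟩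
  have := eta_natural_apply η e.toRingHom x
  rw [hx, map_map_apply,
    show e.toRingHom.comp e.symm.toRingHom = RingHom.id L from RingHom.ext e.apply_symm_apply,
    η.map_id] at this
  exact this.symm

theorem eta_bijective_of_charZero (K : Type u) [Field K] [CharZero K] :
    Function.Bijective (η.eta K) := by
  refine ⟨(η.eta K).injective, fun y => ?_⟩
  obtain ⟨n, a, ha⟩ := η.exists_pow_mem_range_eta K y
  rw [ringExpChar.eq_one, one_pow, pow_one] at ha
  exact ⟨a, ha⟩

theorem eta_bijective_of_perfect (K : Type u) [Field K] [PerfectField K] :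
    Function.Bijective (η.eta K) := by
  refine ⟨(η.eta K).injective, fun y => ?_⟩
  obtain ⟨n, a, ha⟩ := η.exists_pow_mem_range_eta K y
  have : PerfectRing K (ringExpChar K) := PerfectField.toPerfectRing _
  obtain ⟨b, hb⟩ := (bijective_iterateFrobenius K (ringExpChar K) n).2 a
  refine ⟨b, eq_of_pow_eq (η.eta K) (n := n) ?_⟩
  rw [← map_pow, ← iterateFrobenius_def, hb, ha]

/-- The hom `F K → L` extending `f : K → L` when `η` is bijective at `L`. -/
noncomputable def toField (hL : Function.Bijective (η.eta L)) (f : K →+* L) : η.obj K →+* L :=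
  (RingEquiv.ofBijective (η.eta L) hL).symm.toRingHom.comp (η.map f)

theorem eta_toField (hL : Function.Bijective (η.eta L)) (f : K →+* L) (y : η.obj K) :
    η.eta L (toField η hL f y) = η.map f y :=
  (RingEquiv.ofBijective (η.eta L) hL).apply_symm_apply _

theorem toField_eta (hL : Function.Bijective (η.eta L)) (f : K →+* L) (a : K) :
    toField η hL f (η.eta K a) = f a :=
  hL.1 (by rw [eta_toField, eta_natural_apply])

end Field

theorem inV_iff (R : Type u) [CommRing R] [IsDomain R] (K : Type u) [Field K] [Algebra R K]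
    [IsFractionRing R K] : η.InV R ↔ Function.Bijective (η.eta K) := by
  let e : FractionRing R ≃+* K := (FractionRing.algEquiv R K).toRingEquiv
  exact ⟨fun h => eta_bijective_of_equiv η e h, fun h => eta_bijective_of_equiv η e.symm h⟩

theorem inV_valuationSubring {L : Type u} [Field L] (hL : Function.Bijective (η.eta L))
    (V : ValuationSubring L) : η.InV V :=
  (inV_iff η V L).mpr hL

section Eval

variable {A B : Type u} [CommRing A] [CommRing B] {L E : Type u} [Field L] [Field E]

/-- The kernel of a point with values in a field, as a prime. -/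
def kerPt (h : A →+* L) : PrimeSpectrum A := ⟨RingHom.ker h, RingHom.ker_isPrime h⟩

/-- The residue field at the kernel of a point embeds into its field. -/
noncomputable def kerLift (h : A →+* L) : (kerPt h).asIdeal.ResidueField →+* L :=
  Ideal.ResidueField.lift (kerPt h).asIdeal h (le_refl _)
    (fun _ ha => isUnit_iff_ne_zero.mpr fun h0 => ha h0)

theorem kerLift_comp (h : A →+* L) :
    (kerLift h).comp (algebraMap A (kerPt h).asIdeal.ResidueField) = h :=
  RingHom.ext fun a => by
    rw [RingHom.comp_apply]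
    exact Ideal.ResidueField.lift_algebraMap (kerPt h).asIdeal h (le_refl _)
      (fun _ ha => isUnit_iff_ne_zero.mpr fun h0 => ha h0) a

/-- Evaluation of an element of `N A` at a point with values in a field. -/
noncomputable def ev (h : A →+* L) : η.N A →+* η.obj L :=
  (η.map (kerLift h)).comp
    (Pi.evalRingHom (fun p : PrimeSpectrum A => η.obj p.asIdeal.ResidueField) (kerPt h))

theorem ev_eq (h : A →+* L) (p : PrimeSpectrum A) (φ : p.asIdeal.ResidueField →+* L)
    (hφ : φ.comp (algebraMap A _) = h) (x : η.N A) : ev η h x = η.map φ (x p) := by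
  have hp : p = kerPt h := by
    refine PrimeSpectrum.ext (Ideal.ext fun a => ?_)
    show _ ↔ a ∈ RingHom.ker h
    rw [RingHom.mem_ker, ← hφ, RingHom.comp_apply, map_eq_zero_iff φ φ.injective,
      Ideal.algebraMap_residueField_eq_zero]
  subst hp
  show η.map _ (x _) = _
  refine congrArg (fun ψ => η.map ψ (x _)) (Ideal.ResidueField.ringHom_ext ?_)
  rw [hφ, kerLift_comp]

theorem ev_residue (p : PrimeSpectrum A) (x : η.N A) :
    ev η (algebraMap A p.asIdeal.ResidueField) x = x p := by
  rw [ev_eq η _ p (RingHom.id _) (RingHom.id_comp _), η.map_id, RingHom.id_apply]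

theorem map_ev (h : A →+* L) (j : L →+* E) (x : η.N A) :
    η.map j (ev η h x) = ev η (j.comp h) x := by
  rw [ev_eq η h (kerPt h) (kerLift h) (kerLift_comp h), map_map_apply,
    ← ev_eq η (j.comp h) (kerPt h) (j.comp (kerLift h)) (by rw [RingHom.comp_assoc, kerLift_comp])]

theorem ev_t (h : A →+* L) (a : A) : ev η h (η.t A a) = η.eta L (h a) := by
  show η.map _ (η.eta _ _) = _
  rw [eta_natural_apply]
  exact congrArg _ (DFunLike.congr_fun (kerLift_comp h) a)

theorem Nmap_apply (f : A →+* B) (x : η.N A) (q : PrimeSpectrum B) :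
    η.Nmap f x q = ev η ((algebraMap B q.asIdeal.ResidueField).comp f) x := by
  refine (ev_eq η _ (PrimeSpectrum.comap f q) (Ideal.ResidueField.map _ q.asIdeal f rfl) ?_ x).symm
  exact RingHom.ext fun a => Ideal.ResidueField.map_algebraMap _ _ _ _ a

theorem ev_Nmap (f : A →+* B) (h : B →+* L) (x : η.N A) :
    ev η h (η.Nmap f x) = ev η (h.comp f) x := by
  rw [ev_eq η h (kerPt h) (kerLift h) (kerLift_comp h), Nmap_apply, map_ev, ← RingHom.comp_assoc,
    kerLift_comp]

theorem mem_M_iff {x : η.N A} :
    x ∈ η.M A ↔ ∀ (R : Type u) [CommRing R] [IsDomain R] [ValuationRing R], η.InV R →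
      ∀ g : A →+* R, ∃ r : R, ∀ q : PrimeSpectrum R,
        ev η ((algebraMap R q.asIdeal.ResidueField).comp g) x =
          η.eta _ (algebraMap R q.asIdeal.ResidueField r) := by
  constructor
  · intro hx R _ _ _ hR g
    obtain ⟨r, hr⟩ := hx R hR g
    refine ⟨r, fun q => ?_⟩
    rw [← Nmap_apply, ← hr]
    rfl
  · intro hx R _ _ _ hR g
    obtain ⟨r, hr⟩ := hx R hR g
    refine ⟨r, funext fun q => ?_⟩
    rw [Nmap_apply, hr q]
    rfl

/-- The element of `R` attached to an element of `M A`, evaluated at any field point. -/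
theorem exists_ev_eq {x : η.N A} (hx : x ∈ η.M A) {R : Type u} [CommRing R] [IsDomain R]
    [ValuationRing R] (hR : η.InV R) (g : A →+* R) :
    ∃ r : R, ∀ (L : Type u) [Field L] (h : R →+* L), ev η (h.comp g) x = η.eta L (h r) := by
  obtain ⟨r, hr⟩ := hx R hR g
  refine ⟨r, fun L _ h => ?_⟩
  rw [← ev_Nmap, ← hr, ev_t]

theorem Nmap_mem_M (f : A →+* B) {x : η.N A} (hx : x ∈ η.M A) : η.Nmap f x ∈ η.M B := by
  rw [mem_M_iff]
  intro R _ _ _ hR g
  obtain ⟨r, hr⟩ := exists_ev_eq η hx hR (g.comp f)
  refine ⟨r, fun q => ?_⟩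
  rw [ev_Nmap, ← hr _ (algebraMap R q.asIdeal.ResidueField), RingHom.comp_assoc]

/-- The element of `L` given by evaluation, when `η` is bijective at `L`. -/
noncomputable def val (hL : Function.Bijective (η.eta L)) (h : A →+* L) : η.N A →+* L :=
  (RingEquiv.ofBijective (η.eta L) hL).symm.toRingHom.comp (ev η h)

theorem eta_val (hL : Function.Bijective (η.eta L)) (h : A →+* L) (x : η.N A) :
    η.eta L (val η hL h x) = ev η h x :=
  (RingEquiv.ofBijective (η.eta L) hL).apply_symm_apply _

theorem val_t (hL : Function.Bijective (η.eta L)) (h : A →+* L) (a : A) :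
    val η hL h (η.t A a) = h a :=
  hL.1 (by rw [eta_val, ev_t])

/-- Elements of `M A` specialise along valuation rings. -/
theorem val_spec (hL : Function.Bijective (η.eta L)) (h : A →+* L) (V : ValuationSubring L)
    (g : A →+* V) (hg : ∀ a, (g a : L) = h a) {x : η.N A} (hx : x ∈ η.M A) :
    ∃ hv : val η hL h x ∈ V,
      ev η ((IsLocalRing.residue V).comp g) x =
        η.eta _ (IsLocalRing.residue V ⟨val η hL h x, hv⟩) := by
  obtain ⟨r, hr⟩ := exists_ev_eq η hx (inV_valuationSubring η hL V) g
  have h1 := hr L (V.subtype)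
  rw [show V.subtype.comp g = h from RingHom.ext hg] at h1
  have h2 : val η hL h x = r := hL.1 (by rw [eta_val, h1]; rfl)
  refine ⟨h2 ▸ r.2, ?_⟩
  rw [hr _ (IsLocalRing.residue V)]
  exact congrArg (fun v => η.eta _ (IsLocalRing.residue V v)) (Subtype.ext h2.symm)

theorem isIntegralElem_val (hL : Function.Bijective (η.eta L)) (h : A →+* L) {x : η.N A}
    (hx : x ∈ η.M A) : h.IsIntegralElem (val η hL h x) := by
  have key : val η hL h x ∈ ⨅ V : {V : ValuationSubring L // (h.range : Set L) ⊆ V.toSubring},
      V.1.toSubring := by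
    rw [Subring.mem_iInf]
    intro V
    exact (val_spec η hL h V.1 (h.codRestrict V.1.toSubring fun a => V.2 ⟨a, rfl⟩)
      (fun _ => rfl) hx).1
  rw [iInf_valuationSubring_superset, Subalgebra.mem_toSubring, mem_integralClosure_iff] at key
  obtain ⟨P, hP, hP0⟩ := key
  have hsurj : Function.Surjective
      (h.codRestrict (Subring.closure (h.range : Set L))
        fun a => Subring.subset_closure ⟨a, rfl⟩) := by
    rintro ⟨y, hy⟩
    rw [Subring.closure_eq] at hy
    obtain ⟨a, rfl⟩ := hy
    exact ⟨a, rfl⟩
  obtain ⟨Q, hQ, -, hQm⟩ := Polynomial.lifts_and_degree_eq_and_monic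
    ((Polynomial.map_surjective _ hsurj) P) hP
  refine ⟨Q, hQm, ?_⟩
  rw [← hQ, Polynomial.eval₂_map] at hP0
  exact hP0

/-- Valuation subring dominating `h` at a prime containing its kernel. -/
theorem exists_dominate (h : A →+* L) (p : PrimeSpectrum A) (hp : RingHom.ker h ≤ p.asIdeal) :
    ∃ (V : ValuationSubring L) (g : A →+* V), (∀ a, (g a : L) = h a) ∧
      (IsLocalRing.maximalIdeal V).comap g = p.asIdeal := by
  have hu : ∀ s : p.asIdeal.primeCompl, IsUnit (h s) := fun s =>
    isUnit_iff_ne_zero.mpr fun h0 => s.2 (hp h0)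
  let h' : Localization.AtPrime p.asIdeal →+* L := IsLocalization.lift hu
  obtain ⟨V, hV, hloc⟩ := IsLocalRing.exists_factor_valuationRing h'
  let h'' : Localization.AtPrime p.asIdeal →+* V := h'.codRestrict V.toSubring hV
  refine ⟨V, h''.comp (algebraMap A _), fun a => ?_, Ideal.ext fun a => ?_⟩
  · exact IsLocalization.lift_eq hu a
  · have hloc' : IsLocalHom h'' := hloc
    rw [Ideal.mem_comap, IsLocalRing.mem_maximalIdeal, mem_nonunits_iff, RingHom.comp_apply,
      isUnit_map_iff h'', IsLocalization.AtPrime.isUnit_to_map_iff _ p.asIdeal, Ideal.mem_primeCompl_iff,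
      not_not]

/-- An element of `M A` vanishing at `h` vanishes at every specialisation. -/
theorem apply_eq_zero_of_val_eq_zero (hL : Function.Bijective (η.eta L)) (h : A →+* L)
    (p : PrimeSpectrum A) (hp : RingHom.ker h ≤ p.asIdeal) {x : η.N A} (hx : x ∈ η.M A)
    (h0 : val η hL h x = 0) : x p = 0 := by
  obtain ⟨V, g, hg, hgp⟩ := exists_dominate h p hp
  obtain ⟨hv, hev⟩ := val_spec η hL h V g hg hx
  have h1 : (⟨val η hL h x, hv⟩ : V) = 0 := Subtype.ext h0
  rw [h1, map_zero, map_zero] at hev
  have hker : p.asIdeal = RingHom.ker ((IsLocalRing.residue V).comp g) := by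
    rw [← RingHom.comap_ker, IsLocalRing.ker_residue, hgp]
  let φ : p.asIdeal.ResidueField →+* IsLocalRing.ResidueField V :=
    Ideal.ResidueField.lift p.asIdeal ((IsLocalRing.residue V).comp g) hker.le
      (fun a ha => isUnit_iff_ne_zero.mpr fun h' => ha (hker ▸ h'))
  rw [ev_eq η _ p φ (RingHom.ext fun a => by
    rw [RingHom.comp_apply]
    exact Ideal.ResidueField.lift_algebraMap p.asIdeal _ hker.le
      (fun a ha => isUnit_iff_ne_zero.mpr fun h' => ha (hker ▸ h')) a)] at hev
  exact (map_eq_zero_iff _ (η.map φ).injective).mp hev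

end Eval

/-- The canonical point of `A` at `p` with values in `F k(p)`. -/
noncomputable def point {A : Type u} [CommRing A] (p : PrimeSpectrum A) :
    A →+* η.obj p.asIdeal.ResidueField :=
  (η.eta _).comp (algebraMap A _)

theorem ker_point {A : Type u} [CommRing A] (p : PrimeSpectrum A) :
    RingHom.ker (point η p) = p.asIdeal := by
  ext a
  simp [point]

theorem val_point {A : Type u} [CommRing A] (p : PrimeSpectrum A) (x : η.N A) :
    val η (eta_obj_bijective η _) (point η p) x = x p := by
  refine (eta_obj_bijective η _).1 ?_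
  rw [eta_val, point, ← map_ev, ev_residue]
  exact DFunLike.congr_fun (hom_ext η (η.eta_natural (η.eta p.asIdeal.ResidueField))) (x p)

/-- An element of `M A` vanishing at `p` vanishes above `p`. -/
theorem apply_eq_zero_of_le {A : Type u} [CommRing A] {p q : PrimeSpectrum A}
    (hpq : p.asIdeal ≤ q.asIdeal) {x : η.N A} (hx : x ∈ η.M A) (h0 : x p = 0) : x q = 0 :=
  apply_eq_zero_of_val_eq_zero η (eta_obj_bijective η _) (point η p) q
    (by rwa [ker_point]) hx (by rwa [val_point])

/-- Elements of `M A`, for a domain `A`, are determined at the generic point. -/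
theorem injOn_generic (A : Type u) [CommRing A] [IsDomain A] :
    Set.InjOn (fun x : η.N A => x ⟨⊥, Ideal.isPrime_bot⟩) (η.M A) := by
  intro x hx y hy hxy
  refine sub_eq_zero.mp (funext fun q => ?_)
  exact apply_eq_zero_of_le η (p := ⟨⊥, Ideal.isPrime_bot⟩) bot_le (sub_mem hx hy)
    (sub_eq_zero.mpr hxy)

end Groth.Agent.Eta
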